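import Mathlib
import Groth.Prelude.Def_Coh
import Groth.Prelude.Def_CohB1
import Groth.Prelude.Def_FlatMod2

/-!
# The fibrewise finite-locally-free locus (helper57, S4819)
-/

set_option autoImplicit false
universe u

open AlgebraicGeometry CategoryTheory

namespace Groth.Agent.H57.FibLF

/-- The set of points of the base over which the fibre module is finite locally free. -/
def LF {X S : Scheme.{u}} (f : X ⟶ S) (F : X.Modules) : Set S :=
  {s | FlatMod.IsFinLocFree ((Scheme.Modules.pullback (f.fiberι s)).obj F)}

end Groth.Agent.H57.FibLF
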