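import Mathlib
import Groth.Agent.H57.FibLF.Defs
import Groth.Agent.H57.NoEmb.Stmts
import Groth.Agent.H57.FibLocFree
import Groth.Agent.H57.GenFlatSch
import Groth.Agent.H17.KerLocFree
import Groth.Agent.H54.LF_ISO
import Groth.Agent.H44.LF_CHART
import Groth.Agent.H12.LF_DICH
import Groth.Agent.H26.LF_BC

/-!
# Glue file for S4819: the squad pieces under one namespace

(LF-ISO) helper54, (LF-BC) helper26, (LF-CHART) helper44, (LF-DICH) helper12.
-/

set_option autoImplicit false
set_option linter.style.haveILetI false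
universe u

open AlgebraicGeometry CategoryTheory Limits TopologicalSpace

namespace Groth.Agent.H57.FibLF

/-- (LF-ISO) -/
theorem isFinLocFree_iff_of_iso {Z : Scheme.{u}} {M N : Z.Modules} (e : M ≅ N) :
    FlatMod.IsFinLocFree M ↔ FlatMod.IsFinLocFree N :=
  Groth.Agent.H54.LF_ISO.isFinLocFree_iff_of_iso e

/-- (LF-BC) the fibrewise locally free locus commutes with arbitrary base change. -/
theorem lf_preimage {X X' S S' : Scheme.{u}} (f : X ⟶ S) [LocallyOfFiniteType f]
    (F : X.Modules) (hF : Coh.IsCoh F) (g : S' ⟶ S) (f' : X' ⟶ S') (g' : X' ⟶ X)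
    (sq : IsPullback g' f' f g) :
    LF f' ((Scheme.Modules.pullback g').obj F) = g ⁻¹' LF f F :=
  Groth.Agent.H26.LF_BC.lf_preimage f F hF g f' g' sq

/-- (LF-CHART) -/
theorem lf_eq_iInter_of_iSup_eq_top {X S : Scheme.{u}} (f : X ⟶ S) [LocallyOfFiniteType f]
    (F : X.Modules) (hF : Coh.IsCoh F) {ι : Type*} (W : ι → X.Opens) (hW : ⨆ i, W i = ⊤) :
    LF f F = ⋂ i, LF ((W i).ι ≫ f) ((Scheme.Modules.pullback (W i).ι).obj F) :=
  Groth.Agent.H44.LF_CHART.lf_eq_iInter_of_iSup_eq_top f F hF W hW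

/-- (LF-DICH) over an integral Noetherian base, near the generic point either all fibres are
locally free or none is. -/
theorem lf_dichotomy {X S : Scheme.{u}} [IsIntegral S] [IsNoetherian S]
    (f : X ⟶ S) [LocallyOfFiniteType f] [QuasiCompact f]
    (F : X.Modules) (hF : Coh.IsCoh F) :
    ∃ U : S.Opens, genericPoint S ∈ U ∧ ((∀ s ∈ U, s ∈ LF f F) ∨ (∀ s ∈ U, s ∉ LF f F)) :=
  Groth.Agent.H12.LF_DICH.lf_dichotomy f F hF

end Groth.Agent.H57.FibLF
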